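import Cfsg.Agent.PG.BG15.Signal
import Cfsg.Agent.PG.PF8.TypeP

/-!
B & G, section 16: the sets `M_s`, `A₁(M)`, `A(M)`, `A₀(M)` in terms of `σ(M)` and `κ(M)`.
-/

set_option autoImplicit false
set_option linter.unusedSectionVars false

open Pointwise Cfsg Cfsg.Lib.Solv

namespace Cfsg.Lib.FT.PG

variable {G : Type*} [Group G] [Dl G] [Finite G] {M L U K W W₁ W₂ S T : Subgroup G} {x a g : G}

theorem FTtypeJ (g : G) (M : Subgroup G) : FTtype (g •ᶜ M) = FTtype M := by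
  have h1 : sigmaCore (g •ᶜ M) ≠ ⁅g •ᶜ M, g •ᶜ M⁆ ↔ sigmaCore M ≠ ⁅M, M⁆ := by
    rw [MsigmaJ, derJ, Ne, conjsg_inj]
  have h2 : fittingHallOf (g •ᶜ M) = sigmaCore (g •ᶜ M) ↔ fittingHallOf M = sigmaCore M := by
    rw [MsigmaJ, FcoreJ, conjsg_inj]
  have h3 : ⁅⁅g •ᶜ M, g •ᶜ M⁆, ⁅g •ᶜ M, g •ᶜ M⁆⁆ ≤ fittingHallOf (g •ᶜ M) ↔
      ⁅⁅M, M⁆, ⁅M, M⁆⁆ ≤ fittingHallOf M := by
    rw [derJ, derJ, FcoreJ, conjSg]
  have a1 := @FTtype_eq_one_iff _ _ _ M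
  have a2 := @FTtype_eq_two_iff _ _ _ M
  have a3 := @FTtype_eq_three_iff _ _ _ M
  have a4 := @FTtype_eq_four_iff _ _ _ M
  have a5 := @FTtype_eq_five_iff _ _ _ M
  have h1' := not_iff_not.1 h1
  rcases FTtype_cases (g •ᶜ M) with h | h | h | h | h <;> rw [h] <;> symm
  · rwa [FTtype_eq_one_iff, kappaJ, ← a1] at h
  · rwa [FTtype_eq_two_iff, kappaJ, h1, ← a2] at h
  · rwa [FTtype_eq_three_iff, kappaJ, h1', Ne, Ne, h2, h3, ← Ne, ← Ne, ← a3] at h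
  · rwa [FTtype_eq_four_iff, kappaJ, h1', Ne, Ne, h2, h3, ← Ne, ← Ne, ← a4] at h
  · rwa [FTtype_eq_five_iff, kappaJ, h1', h2, ← a5] at h

theorem FTcoreJ (g : G) (M : Subgroup G) : FTcore (g •ᶜ M) = g •ᶜ FTcore M := by
  unfold FTcore
  rw [FTtypeJ]
  split_ifs
  exacts [FcoreJ g M, derJ g M]

theorem Fcore_eq_Msigma_of_le2 (hG : Ctx G) (hM : Mx M) (h : FTtype M ≤ 2) :
    fittingHallOf M = sigmaCore M := by
  by_contra hne
  obtain ⟨K, hK⟩ := ex_kappa_Hall hG hM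
  obtain ⟨⟨h1, -, h2⟩, -⟩ := Fcore_neq_Msigma hG hM hK hne rfl
  have := FTtype_gt_two_iff.2 ⟨h1.maxP.2.ne_empty, h2⟩
  omega

theorem def_FTcore (hG : Ctx G) (hM : Mx M) : FTcore M = sigmaCore M := by
  by_cases h : FTtype M ≤ 2
  · rw [FTcore_type_le2 h, Fcore_eq_Msigma_of_le2 hG hM h]
  · rw [FTcore_type_gt2 (by omega), (FTtype_gt_two_iff.1 (by omega)).2]

theorem Fcore_sub_FTcore (hG : Ctx G) (hM : Mx M) :
    fittingHallOf M ≤ FTcore M := def_FTcore hG hM ▸ Fcore_sub_Msigma hG hM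

theorem FTcore_sub_der1 (hG : Ctx G) (hM : Mx M) : FTcore M ≤ ⁅M, M⁆ :=
  def_FTcore hG hM ▸ Msigma_der1 hG hM

theorem Fcore_sub_der1 (hG : Ctx G) (hM : Mx M) :
    fittingHallOf M ≤ ⁅M, M⁆ := (Fcore_sub_FTcore hG hM).trans (FTcore_sub_der1 hG hM)

theorem FTcore_sub_FTder (hG : Ctx G) (hM : Mx M) : FTcore M ≤ FTder M :=
  (FTcore_sub_der1 hG hM).trans (der_sub_FTder M)

theorem mmax_Fcore_neq1 (hG : Ctx G) (hM : Mx M) : fittingHallOf M ≠ ⊥ :=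
  (Fcore_structure hG hM).1

theorem FTcore_neq1 (hG : Ctx G) (hM : Mx M) : FTcore M ≠ ⊥ :=
  subG1_contra (Fcore_sub_FTcore hG hM) (mmax_Fcore_neq1 hG hM)

theorem norm_mmax_Fcore (hG : Ctx G) (hM : Mx M) :
    𝐍 (fittingHallOf M) = M := mmax_normal hG hM (Fcore_normal M) (mmax_Fcore_neq1 hG hM)

theorem FTtype_P1max (hG : Ctx G) (hM : Mx M) : MaxP1 M ↔ 2 < FTtype M := by
  obtain ⟨K, hK⟩ := ex_kappa_Hall hG hM
  obtain ⟨U, hU⟩ := ex_kappa_compl hG hM hK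
  have key : MaxP M → (U = ⊥ ↔ sigmaCore M = ⁅M, M⁆) := fun hP =>
    ((kappa_structure hG hM hU).2.1 ((nontriv_kappa hM hK).2 hP)).1.right_eq_bot_iff
  rw [FTtype_gt_two_iff]
  constructor
  · intro h
    exact ⟨h.maxP.2.ne_empty, (key h.maxP).1 ((trivg_kappa_compl hG hM hU).2 h)⟩
  · rintro ⟨h1, h2⟩
    exact (trivg_kappa_compl hG hM hU).1 ((key ⟨hM, Set.nonempty_iff_ne_empty.2 h1⟩).2 h2)

theorem FTtype_P2max (hG : Ctx G) (hM : Mx M) : MaxP2 M ↔ FTtype M = 2 := by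
  have h1 := FTtype_P1max hG hM
  have h2 := FTtype_Pmax hM
  have h3 := FTtype_range M
  constructor
  · intro h
    have h4 := h2.1 h.maxP
    have h5 : ¬ 2 < FTtype M := fun e => (h1.2 e).not_maxP2 h
    omega
  · intro h
    exact (h2.2 (by omega)).p1_or_p2.resolve_left fun e => by have := h1.1 e; omega

theorem FTtype_le2_iff (hG : Ctx G) (hM : Mx M) :
    FTtype M ≤ 2 ↔ MaxF M ∨ MaxP2 M := by
  rw [← not_maxP1_iff hM, FTtype_P1max hG hM, not_lt]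

theorem FTsupp1_sub (hG : Ctx G) (hM : Mx M) : FTsupp1 M ⊆ FTsupp M :=
  fun a ha => ⟨FTcore_sub_FTder hG hM ha.1, ha.2, a, ha.1, ha.2, cent1id a⟩

theorem FTsupp1_sub0 (hG : Ctx G) (hM : Mx M) : FTsupp1 M ⊆ FTsupp0 M :=
  (FTsupp1_sub hG hM).trans (FTsupp_sub0 M)

theorem Fcore_sub_FTsupp1 (hG : Ctx G) (hM : Mx M) :
    sharp (fittingHallOf M) ⊆ FTsupp1 M := sharp_mono (Fcore_sub_FTcore hG hM)

theorem Fcore_sub_FTsupp (hG : Ctx G) (hM : Mx M) :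
    sharp (fittingHallOf M) ⊆ FTsupp M := (Fcore_sub_FTsupp1 hG hM).trans (FTsupp1_sub hG hM)

theorem Fcore_sub_FTsupp0 (hG : Ctx G) (hM : Mx M) :
    sharp (fittingHallOf M) ⊆ FTsupp0 M := (Fcore_sub_FTsupp hG hM).trans (FTsupp_sub0 M)

theorem FTsupp1_nonempty (hG : Ctx G) (hM : Mx M) : (FTsupp1 M).Nonempty :=
  sharp_nonempty.2 (FTcore_neq1 hG hM)

theorem mem_FTsupp1_iff_sigma (hG : Ctx G) (hM : Mx M) :
    x ∈ FTsupp1 M ↔ x ∈ sigmaCore M ∧ x ≠ 1 := by rw [mem_FTsupp1, def_FTcore hG hM]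

theorem mem_Msigma_iff (hG : Ctx G) (hM : Mx M) (hx : x ∈ M) :
    x ∈ sigmaCore M ↔ PiElt (sigma M) x :=
  mem_normal_Hall (Msigma_Hall hG hM) (Msigma_normal M).norm hx

/-- `FTder M` is the normal Hall `κ(M)'`-subgroup of `M` -/
theorem FTder_Hall (hG : Ctx G) (hM : Mx M) :
    IsPiHallOf (kappa M)ᶜ (FTder M) M := by
  by_cases h : FTtype M = 1
  · rw [FTder_type1 h, FTtype_eq_one_iff.1 h]
    exact pHall_id fun _ _ _ => by simp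
  · obtain ⟨K, hK⟩ := ex_kappa_Hall hG hM
    obtain ⟨-, -, -, -, -, -, -, -, -, -, hs⟩ := Ptype_embedding hG ((FTtype_Pmax hM).2 h) hK
    rw [FTder_typeP h]
    exact hs.compl_p'Hall.2 hK

theorem mem_FTder_iff (hG : Ctx G) (hM : Mx M) (hx : x ∈ M) :
    x ∈ FTder M ↔ PiElt (kappa M)ᶜ x :=
  mem_normal_Hall (FTder_Hall hG hM) (FTder_normal M).norm hx

/-- the `σ(M)'`-part of an element of `A(M) - A₁(M)` has its centralizer in a unique maximal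
subgroup -/
theorem FTsupp_diff_uniq (hG : Ctx G) (hM : Mx M) (ha : a ∈ FTsupp M)
    (ha1 : a ∉ FTsupp1 M) : UniqMax (𝐂₁ (constt (sigma M)ᶜ a)) M := by
  obtain ⟨h1, h2, x, hx, hx1, hc⟩ := ha
  rw [def_FTcore hG hM] at hx
  have haM : a ∈ M := FTder_sub M h1
  have h3 : constt (sigma M)ᶜ a ≠ 1 := fun e => ha1 ((mem_FTsupp1_iff_sigma hG hM).2
    ⟨(mem_Msigma_iff hG hM haM).2 (by simpa using constt1P.1 e), h2⟩)
  rcases pi_of_cent_sigma hG hM hx hx1 (x' := constt (sigma M)ᶜ a)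
    ⟨groupX_constt _ haM, groupX_constt _ hc⟩ h3 (p_elt_constt _ a) with h | h
  · exact absurd (p_elt_eq_one h.1
      (mem_p_elt (pHall_pgroup (FTder_Hall hG hM)) (groupX_constt _ h1))) h3
  · exact h.2.2

/-- B & G, Theorem B(5) -/
theorem FTsupp_diff_TI (hG : Ctx G) (hM : Mx M)
    (h : (FTsupp M \ FTsupp1 M).Nonempty) : NormedTI (FTsupp M \ FTsupp1 M) ⊤ M := by
  refine ⟨h, le_top, fun g hg a ha => ⟨FTsupp_norm (normG M hg) ha.1, fun e => ha.2 ?_⟩,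
    fun g _ a ha hga => ?_⟩
  · have := FTsupp1_norm (normG M (M.inv_mem hg)) e
    simpa [mul_assoc] using this
  · have h1 := FTsupp_diff_uniq hG hM ha.1 ha.2
    have h2 := FTsupp_diff_uniq hG hM hga.1 hga.2
    rw [consttJ, cent1J] at h2
    exact h1.mem_of_conj_le hG h2.le

end Cfsg.Lib.FT.PG
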