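import Cfsg.Agent.PG.BG16.Basic

/-!
B & G, Lemma 16.1: the types of maximal subgroups.
-/

set_option autoImplicit false
set_option linter.unusedSectionVars false

open Pointwise Cfsg Cfsg.Lib.Solv

namespace Cfsg.Lib.FT.PG

variable {G : Type*} [Group G] [Dl G] [Finite G] {M L U K W W₁ W₂ S T : Subgroup G} {x a g : G}

/-- a maximal subgroup in `𝓜_P` is of type P, with `W₁ = K`, `W₂ = K*` -/
theorem typeP_of_kappa_Hall (hG : Ctx G) (hP : MaxP M)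
    (hK : IsPiHallOf (kappa M) K M) :
    ∃ U, OfTypeP M U (K ⊔ sigmaCore M ⊓ 𝐂 K) K (sigmaCore M ⊓ 𝐂 K) := by
  have hM := hP.max
  obtain ⟨-, -, -, -, -, -, ⟨-, -, hcent, -, -⟩, ⟨hTI, -, -⟩, -, -, hs⟩ := Ptype_embedding hG hP hK
  obtain ⟨hKs1, hKsc, hKs2, hKsF, hnc⟩ := Ptype_cyclics hG hP hK
  obtain ⟨-, ⟨hF1, hF2, -⟩, ⟨hF3, -⟩, hF4⟩ := Fitting_structure hG hM
  have hco : (Nat.card ↥⁅M, M⁆).Coprime (Nat.card K) := hs.isHallOf_right_iff.1 (pHall_Hall hK)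
  obtain ⟨U, hU, hKU⟩ := coprime_Hall_exists (piOf (Nat.card (fittingHallOf M)))ᶜ hs.norm hco
    (sub_mmax_sol hG hM (der_sub M))
  have hsU : SDProd (fittingHallOf M) U ⁅M, M⁆ :=
    sdprod_normal_pHall (normalS hF3 (der_sub M) (Fcore_normal M))
      (pHall_subl hF3 (der_sub M) (Hall_pi (Fcore_Hall M))) hU
  have hKs : sigmaCore M ⊓ 𝐂 K ≤ ⁅M, M⁆ := hKs2.trans (der_sub _)
  have hd : DProd K (sigmaCore M ⊓ 𝐂 K) (K ⊔ sigmaCore M ⊓ 𝐂 K) :=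
    DProd.of_eq_sup inf_le_right (by
      rw [eq_bot_iff, ← hs.inf']; exact inf_le_inf_left _ hKs)
  refine ⟨U, hd, kappa_Hall_cyclic hG hM hK, pHall_Hall hK, (nontriv_kappa hM hK).2 hP, hs,
    der1_Fcore_compl_nil hG hM hsU.le_right hsU.inf, hsU.le_right, hKU, hsU, hnc, hF1, hF2, hF4 hP,
    hKsc, hKs1, hKsF, hKs2, fun x hx hx1 => ?_, hTI⟩
  have h1 := (hd.modl hKs).sup
  rw [hs.inf', bot_sup_eq, ← hcent x hx hx1] at h1
  rw [h1, inf_comm M, inf_assoc, inf_eq_right.2 (der_sub M), inf_comm]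

theorem FTtypeP_witness (hG : Ctx G) (hM : Mx M) (h : FTtype M ≠ 1) :
    ∃ U W W₁ W₂, OfTypeP M U W W₁ W₂ := by
  obtain ⟨K, hK⟩ := ex_kappa_Hall hG hM
  obtain ⟨U, hU⟩ := typeP_of_kappa_Hall hG ((FTtype_Pmax hM).2 h) hK
  exact ⟨U, _, _, _, hU⟩

theorem FTtype1_of_typeF (hG : Ctx G) (hM : Mx M) (h : OfTypeF M U) :
    FTtype M = 1 := by
  by_contra h1
  obtain ⟨_, _, _, _, hP⟩ := FTtypeP_witness hG hM h1
  exact typePF_exclusion hP U h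

theorem typeP_cent_Msigma (hG : Ctx G) (hM : Mx M) (h : OfTypeP M U W W₁ W₂) :
    sigmaCore M ⊓ 𝐂 W₁ = W₂ := by
  apply le_antisymm
  · rw [← typeP_cent_compl h]; exact inf_le_inf_right _ (Msigma_der1 hG hM)
  · exact le_inf (h.W₂_le.trans (Fcore_sub_Msigma hG hM)) h.dprod.cent

theorem typeP_kappa_group (hG : Ctx G) (hM : Mx M) (h : OfTypeP M U W W₁ W₂) :
    IsPiSubgroup (kappa M) W₁ := by
  intro p hp hpW
  have : Fact p.Prime := ⟨hp⟩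
  have hnd : ¬ p ∣ Nat.card ↥⁅M, M⁆ := fun e =>
    hp.one_lt.ne' (Nat.eq_one_of_dvd_coprimes (typeP_coprime_der_W₁ h) e hpW)
  refine ⟨hp, hpW.trans (cardSg h.sdprod.le_right), fun hσ => hnd ?_, fun P => ?_⟩
  · have : p ∈ piOf (Nat.card (sigmaCore M)) := by rw [pi_Msigma hG hM]; exact hσ
    exact this.2.trans (cardSg (Msigma_der1 hG hM))
  · have hP := Sylow_map_subtype P
    obtain ⟨m, hm, hle⟩ := Hall_subJ (mmax_sol hG hM) (Hall_pi h.W₁_hall) (pHall_sub hP)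
      (pi_pgroup (Sylow_pgroup hP) (mem_piOf.2 ⟨hp, hpW⟩))
    have hc : IsCyclic ((P : Subgroup M).map M.subtype) := cyclicS hle ((cyclicJ m).2 h.W₁_cyclic)
    refine ⟨isCyclic_of_surjective _
      ((P : Subgroup M).equivMapOfInjective M.subtype M.subtype_injective).symm.surjective, ?_⟩
    obtain ⟨y, hy, hy1⟩ := trivgPn.1 (Sylow_ne_bot hP (hpW.trans (cardSg h.sdprod.le_right)))
    obtain ⟨y, hyP, rfl⟩ := hy
    obtain ⟨z, hz, hz1⟩ := trivgPn.1 h.W₂_ne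
    rw [← typeP_cent_Msigma hG hM h] at hz
    refine ⟨y, hyP, fun e => hy1 (by rw [e]; rfl), m * z * m⁻¹,
      (memJ_norm ((Msigma_normal M).norm hm)).2 hz.1, by rwa [Ne, conjg_eq1], ?_⟩
    have h2 : m * z * m⁻¹ ∈ 𝐂 (m •ᶜ W₁) := by rw [centJ]; exact conj_mem_conj_smul m hz.2
    exact mem_cent.1 h2 _ (hle ⟨y, hyP, rfl⟩)

theorem typeP_maxP (hG : Ctx G) (hM : Mx M) (h : OfTypeP M U W W₁ W₂) :
    MaxP M := by
  obtain ⟨p, hp, hpW⟩ := exists_prime_dvd_card h.W₁_ne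
  exact ⟨hM, p, typeP_kappa_group hG hM h p hp hpW⟩

theorem FTtypeP_neq1 (hG : Ctx G) (hM : Mx M) (h : OfTypeP M U W W₁ W₂) :
    FTtype M ≠ 1 := (FTtype_Pmax hM).1 (typeP_maxP hG hM h)

theorem typeP_kappa_Hall (hG : Ctx G) (hM : Mx M) (h : OfTypeP M U W W₁ W₂) :
    IsPiHallOf (kappa M) W₁ M := by
  have h1 := FTder_Hall hG hM
  rw [FTder_typeP (FTtypeP_neq1 hG hM h)] at h1
  exact h.sdprod.compl_p'Hall.1 h1

theorem FTtype5_iff_U_eq_bot (hG : Ctx G) (hM : Mx M)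
    (h : OfTypeP M U W W₁ W₂) : FTtype M = 5 ↔ U = ⊥ := by
  rw [h.sdprodU.right_eq_bot_iff, FTtype_eq_five_iff]
  refine ⟨fun e => e.2.2.trans e.2.1, fun e => ⟨(typeP_maxP hG hM h).2.ne_empty, ?_, ?_⟩⟩
  · exact le_antisymm (Msigma_der1 hG hM) (e ▸ Fcore_sub_Msigma hG hM)
  · exact le_antisymm (Fcore_sub_Msigma hG hM) (e ▸ Msigma_der1 hG hM)

/-- in type 2, `U` is the complement of B & G -/
theorem typeP_kappaCompl (hG : Ctx G) (hM : Mx M) (h : OfTypeP M U W W₁ W₂)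
    (h2 : FTtype M = 2) : KappaCompl M U W₁ := by
  have hK := typeP_kappa_Hall hG hM h
  have hs := h.sdprodU
  rw [Fcore_eq_Msigma_of_le2 hG hM h2.le] at hs
  have hσ : IsPiHallOf (sigma M)ᶜ U ⁅M, M⁆ :=
    hs.compl_pHall.1 (pHall_subl hs.le_left (der_sub M) (Msigma_Hall hG hM))
  have hκ : IsPiHallOf (kappa M)ᶜ ⁅M, M⁆ M := h.sdprod.compl_p'Hall.2 hK
  refine ⟨hK, subHall_Hall hκ (Set.compl_subset_compl.2 Set.subset_union_right)
    (eq_in_pHall (fun r hr hd => ?_) hσ), h.W₁_norm⟩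
  have := pHall_pgroup hκ r hr hd
  simp only [Set.mem_compl_iff, mem_sigmaKappa] at this ⊢
  tauto

theorem compl_of_typeII_IV (hG : Ctx G) (hM : Mx M)
    (h : OfTypeP M U W W₁ W₂) (h5 : FTtype M ≠ 5) : OfTypeII_IV M U W W₁ W₂ := by
  have hU : U ≠ ⊥ := fun e => h5 ((FTtype5_iff_U_eq_bot hG hM h).2 e)
  have hP := typeP_maxP hG hM h
  have hK := typeP_kappa_Hall hG hM h
  rcases hP.p1_or_p2 with h1 | h2
  · obtain ⟨e1, e2⟩ := FTtype_gt_two_iff.1 ((FTtype_P1max hG hM).1 h1)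
    have hne : fittingHallOf M ≠ sigmaCore M := fun e => h5 (FTtype_eq_five_iff.2 ⟨e1, e2, e⟩)
    refine ⟨h, hU, (Fcore_neq_Msigma hG hM hK hne rfl).2.1.1, ?_⟩
    by_contra hn
    exact hne (nonTI_Fitting_facts hG hM hn).2.1
  · refine ⟨h, hU, ((Ptype_structure hG hP hK).2.2.2.2.2.2 h2).2.1, ?_⟩
    by_contra hn
    exact (nonTI_Fitting_facts hG hM hn).1.elim (fun e => e.not_maxP hP) fun e => e.not_maxP2 h2

theorem compl_of_typeII (hG : Ctx G) (hM : Mx M)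
    (h : OfTypeP M U W W₁ W₂) (h2 : FTtype M = 2) : OfTypeII M U W W₁ W₂ := by
  have hK := typeP_kappaCompl hG hM h h2
  have hU : U ≠ ⊥ := fun e =>
    ((trivg_kappa_compl hG hM hK).1 e).not_maxP2 ((FTtype_P2max hG hM).2 h2)
  obtain ⟨-, hb, -, -, he⟩ := kappa_structure hG hM hK
  have hab := (hb h.W₁_ne).2
  obtain ⟨U₀, h01, h02, h03⟩ := he hU
  have e := typeP_Fcore_der h
  rw [← Fcore_eq_Msigma_of_le2 hG hM h2.le, ← e] at h03
  exact ⟨compl_of_typeII_IV hG hM h (by omega), hab,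
    ⟨e ▸ mmax_Fcore_neq1 hG hM, hU, e ▸ h.sdprodU,
      ⟨U, normal_refl U, hab, fun _ _ _ => inf_le_left⟩, ⟨U₀, h01, h02, h03⟩⟩, e⟩

theorem Fcore_TI_of_Fitting_TI (hG : Ctx G) (hM : Mx M)
    (h : NormedTI (sharp (fittingOf M)) ⊤ M) :
    NormedTI (sharp (fittingHallOf M)) ⊤ (𝐍 (fittingHallOf M)) := by
  rw [norm_mmax_Fcore hG hM]
  exact h.sharp_mono (mmax_Fcore_neq1 hG hM) (sharp_mono (Fcore_sub_Fitting M)) (Fcore_normal M).norm

theorem compl_of_typeV (hG : Ctx G) (hM : Mx M)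
    (h : OfTypeP M U W W₁ W₂) (h5 : FTtype M = 5) : OfTypeV M U W W₁ W₂ := by
  have hU := (FTtype5_iff_U_eq_bot hG hM h).1 h5
  refine ⟨h, hU, ?_⟩
  by_cases hTI : NormedTI (sharp (fittingOf M)) ⊤ M
  · exact Or.inl (Fcore_TI_of_Fitting_TI hG hM hTI)
  right
  obtain ⟨g, hg, hX⟩ := exists_nonTI_Fitting hG hM hTI
  obtain ⟨-, ⟨hXH, -⟩, -, -, he⟩ := nonTI_Fitting_structure hG hM hg rfl hX
  have hs : SDProd (fittingHallOf M) W₁ M := h.sdprodU.eq_left_of_right_eq_bot hU ▸ h.sdprod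
  rcases he with ⟨hF, -⟩ | ⟨p, hp, hXp, -, -, -, hc, he⟩
  · exact absurd (typeP_maxP hG hM h) hF.not_maxP
  have hpH : p ∣ Nat.card (fittingHallOf M) := hXp ▸ cardSg hXH
  rcases he with he | ⟨h1, -, h2⟩
  · refine Or.inl ⟨p, hp, hpH, ?_, hc⟩
    have := h.W₁_cyclic
    rw [← IsCyclic.exponent_eq_card]
    exact exponent_dvd_of_pow_mem hs (he p hp hpH)
  · exact Or.inr ⟨p, hp, hpH, h1, hs.relIndex_left ▸ h2, hc⟩

theorem type1_kappaCompl (hG : Ctx G) (hM : Mx M) (h : FTtype M = 1)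
    (hU : SDProd (fittingHallOf M) U M) : KappaCompl M U ⊥ := by
  have e := FTtype_eq_one_iff.1 h
  rw [Fcore_eq_Msigma_of_le2 hG hM (by omega)] at hU
  refine ⟨Hall1 (e ▸ fun _ _ _ => by simp), ?_, bot_le⟩
  rw [sigmaKappa, e, Set.union_empty]
  exact hU.compl_pHall.1 (Msigma_Hall hG hM)

theorem compl_of_typeI (hG : Ctx G) (hM : Mx M) (h : FTtype M = 1)
    (hU : SDProd (fittingHallOf M) U M) : OfTypeI M U := by
  have e := Fcore_eq_Msigma_of_le2 hG hM (h.le.trans one_le_two)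
  have hU1 : U ≠ ⊥ := fun e1 => by
    have h1 := (Fcore_sub_der1 hG hM).trans_lt (Fcore_structure hG hM).2.2.2
    exact h1.ne (hU.eq_left_of_right_eq_bot e1)
  obtain ⟨-, -, -, ⟨A₀, hA1, hA2, hA3⟩, he⟩ := kappa_structure hG hM (type1_kappaCompl hG hM h hU)
  obtain ⟨U₀, h01, h02, h03⟩ := he hU1
  rw [← e] at hA3 h03
  refine ⟨⟨mmax_Fcore_neq1 hG hM, hU1, hU, ⟨A₀, hA2, hA1, hA3⟩, ⟨U₀, h01, h02, h03⟩⟩, ?_⟩
  by_cases hTI : NormedTI (sharp (fittingOf M)) ⊤ M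
  · exact Or.inl (Fcore_TI_of_Fitting_TI hG hM hTI)
  right
  obtain ⟨g, hg, hX⟩ := exists_nonTI_Fitting hG hM hTI
  obtain ⟨-, ⟨hXH, -⟩, -, -, he⟩ := nonTI_Fitting_structure hG hM hg rfl hX
  rcases he with ⟨-, h1⟩ | ⟨p, hp, hXp, -, -, -, hc, he⟩
  · exact Or.inl h1
  have hpH : p ∣ Nat.card (fittingHallOf M) := hXp ▸ cardSg hXH
  rcases he with he | ⟨-, h1, -⟩
  · exact Or.inr ⟨fun q hq hqH => exponent_dvd_of_pow_mem hU (he q hq hqH), p, hp, hpH, hc⟩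
  · exact absurd h1.maxP ((FTtype_Fmax hM).2 h).not_maxP

theorem FTtype1_witness (hG : Ctx G) (hM : Mx M) (h : FTtype M = 1) :
    ∃ U, OfTypeI M U := by
  obtain ⟨U, hU⟩ := exists_sdprod_of_isHallOf (Fcore_normal M) (Fcore_Hall M)
  exact ⟨U, compl_of_typeI hG hM h hU⟩

end Cfsg.Lib.FT.PG
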